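import Mathlib
import Groth.Prelude.Def_EndRing
import Groth.Agent.H81.JM_KER
import Groth.Agent.H35.JM_ACC

/-!
# helper74: S16394 assembly — trivial common kernel ⇒ finitely many homomorphisms are jointly mono
-/

set_option autoImplicit false
set_option linter.style.haveILetI false
universe u
open CategoryTheory MonoidalCategory CartesianMonoidalCategory MonObj GrpObj AlgebraicGeometry

namespace Groth.Agent.H74.JM

/-- abstract version: noetherian chain of kernels -/
theorem jointly_mono_of_trivial_common_kernel {S : Scheme.{u}} (X A : Over S) [GrpObj X] [GrpObj A]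
    [IsNoetherian X.left] [IsSeparated A.hom] {Φ : Type*} (ψ : Φ → (X ⟶ A))
    [∀ φ, IsMonHom (ψ φ)]
    (hsep : ∀ (T : Over S) (x : T ⟶ X), (∀ φ, x ≫ ψ φ = 1) → x = 1) :
    ∃ s : Finset Φ, ∀ (T : Over S) (x y : T ⟶ X), (∀ φ ∈ s, x ≫ ψ φ = y ≫ ψ φ) → x = y := by
  classical
  choose I hI using fun φ => Groth.Agent.H81.JM_KER.exists_kernel_idealSheaf X A (ψ φ)
  obtain ⟨s, hs⟩ := Groth.Agent.H35.JM_ACC.exists_finset_sup_ge I
  set K := s.sup I with hK
  -- the point given by the subscheme of `K`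
  let TK : Over S := Over.mk (K.subschemeι ≫ X.hom)
  let xK : TK ⟶ X := Over.homMk K.subschemeι rfl
  have hxK : xK = 1 := by
    apply hsep
    intro φ
    rw [hI φ TK xK]
    show I φ ≤ K.subschemeι.ker
    rw [Scheme.IdealSheafData.ker_subschemeι]
    exact hs φ
  refine ⟨s, fun T x y h => ?_⟩
  have hz : ∀ φ ∈ s, (x / y) ≫ ψ φ = 1 := by
    intro φ hφ
    rw [GrpObj.div_comp, h φ hφ, div_self']
  have hle : K ≤ (x / y).left.ker := by
    rw [hK]
    apply Finset.sup_le
    intro φ hφ
    exact (hI φ T (x / y)).mp (hz φ hφ)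
  have hle' : K.subschemeι.ker ≤ (x / y).left.ker := by
    rwa [Scheme.IdealSheafData.ker_subschemeι]
  let t : T.left ⟶ K.subscheme := IsClosedImmersion.lift K.subschemeι (x / y).left hle'
  have ht : t ≫ K.subschemeι = (x / y).left := IsClosedImmersion.lift_fac _ _ _
  let t' : T ⟶ TK := Over.homMk t (by
    show t ≫ K.subschemeι ≫ X.hom = T.hom
    rw [← Category.assoc, ht, Over.w])
  have h1 : x / y = t' ≫ xK := Over.OverMorphism.ext ht.symm
  have h2 : x / y = 1 := by
    rw [h1, hxK, MonObj.comp_one]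
  exact div_eq_one.mp h2

theorem main (k : Type u) [Field k] (X A : Over (Spec (CommRingCat.of k)))
    [GrpObj X] [IsCommMonObj X] [IsProper X.hom]
    [GrpObj A] [IsCommMonObj A] [IsProper A.hom]
    (hsep : ∀ (T : Over (Spec (CommRingCat.of k))) (x : T ⟶ X),
      (∀ f : EndAV.Hom X A, x ≫ f.toHom = 1) → x = 1) :
    ∃ (n : ℕ) (ψ : Fin n → EndAV.Hom X A), ∀ (T : Over (Spec (CommRingCat.of k))) (x y : T ⟶ X),
      (∀ i, x ≫ (ψ i).toHom = y ≫ (ψ i).toHom) → x = y := by
  classical
  haveI : IsLocallyNoetherian X.left := LocallyOfFiniteType.isLocallyNoetherian X.hom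
  haveI : CompactSpace X.left := QuasiCompact.compactSpace_of_compactSpace X.hom
  haveI : IsNoetherian X.left := {}
  obtain ⟨s, hs⟩ := jointly_mono_of_trivial_common_kernel X A
    (fun f : EndAV.Hom X A => f.toHom) hsep
  refine ⟨s.card, fun i => (s.equivFin.symm i : EndAV.Hom X A), fun T x y h => hs T x y ?_⟩
  intro φ hφ
  have := h (s.equivFin ⟨φ, hφ⟩)
  simpa using this

end Groth.Agent.H74.JM
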